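import Groth.Agent.Lib.Helper22.Strata.Basic
import Groth.Agent.Lib.Helper22.EtLoc.LccPull
import Groth.Prelude.Def_PBC
import Mathlib.AlgebraicGeometry.Morphisms.QuasiCompact
import Mathlib.AlgebraicGeometry.Morphisms.Affine

/-!
# Adapted stratifications for abelian étale sheaves (helper22)
-/

set_option autoImplicit false

universe u

open CategoryTheory CategoryTheory.Limits AlgebraicGeometry Set

namespace Groth.Agent.Lib.Helper22.Strata

open Groth.Agent.Lib.Helper22.EtLoc

variable {X : Scheme.{u}}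

lemma isFiniteLocallyConstant_of_iso {F G : EtCoh.Ab X} (e : F ≅ G)
    (h : EtCoh.IsFiniteLocallyConstant F) : EtCoh.IsFiniteLocallyConstant G := by
  obtain ⟨ι, U, hU, hM⟩ := h
  refine ⟨ι, U, hU, fun i => ?_⟩
  obtain ⟨M, i1, i2, ⟨a⟩⟩ := hM i
  exact ⟨M, i1, i2,
    ⟨(X.smallEtaleTopology.overPullback AddCommGrpCat.{u + 1} (U i)).mapIso e.symm ≪≫ a⟩⟩

/-- The pullback of `F` along `g` is finite locally constant. -/
def PF (F : EtCoh.Ab X) : MorProp X :=
  fun _ g => EtCoh.IsFiniteLocallyConstant ((EtCoh.pull g).obj F)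

lemma PF_stable (F : EtCoh.Ab X) : (PF F).Stable := by
  intro T T' h g hg
  exact isFiniteLocallyConstant_of_iso ((EtCore.pullComp h g).app F).symm
    (LccPull.isFiniteLocallyConstant_pull h _ hg)

lemma PF_comp {Y : Scheme.{u}} (f : Y ⟶ X) (F : EtCoh.Ab X) {T : Scheme.{u}} (g : T ⟶ Y) :
    PF ((EtCoh.pull f).obj F) g ↔ PF F (g ≫ f) := by
  constructor
  · intro h
    exact isFiniteLocallyConstant_of_iso ((EtCore.pullComp g f).app F).symm h
  · intro h
    exact isFiniteLocallyConstant_of_iso ((EtCore.pullComp g f).app F) h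

lemma adaptedStrata_iff (F : EtCoh.Ab X) (S : Set X) :
    EtPBC.AdaptedStrata F S ↔ StIn (PF F) S S := by
  constructor
  · rintro ⟨n, T, g, him, hc, hdis, hun, hP⟩
    exact ⟨Fin n, inferInstance, T, g, him, hc, hdis, hun, fun i => hP i⟩
  · rintro ⟨ι, fin, T, g, him, hc, hdis, hun, hP⟩
    let e : ι ≃ Fin (Nat.card ι) := Finite.equivFin ι
    refine ⟨Nat.card ι, fun k => T (e.symm k), fun k => g (e.symm k), fun k => him _,
      fun k => hc _, ?_, ?_, fun k _ => hP _⟩
    · intro k l hkl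
      exact hdis (fun h => hkl (e.symm.injective h))
    · rw [← hun]
      exact e.symm.surjective.iUnion_comp (fun i => Set.range (g i))

lemma range_comp_eq {A B C : Scheme.{u}} (g : A ⟶ B) (j : B ⟶ C) :
    Set.range (g ≫ j) = j '' Set.range g := by
  ext x
  constructor
  · rintro ⟨a, rfl⟩
    exact ⟨g a, ⟨a, rfl⟩, (Scheme.Hom.comp_apply g j a).symm⟩
  · rintro ⟨_, ⟨a, rfl⟩, rfl⟩
    exact ⟨a, Scheme.Hom.comp_apply g j a⟩

/-- Transport of a stratification along an open immersion. -/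
lemma StIn.of_openImmersion {Y : Scheme.{u}} (j : Y ⟶ X) [IsOpenImmersion j] (F : EtCoh.Ab X)
    {S : Set Y} (h : StIn (PF ((EtCoh.pull j).obj F)) S S) : StIn (PF F) (j '' S) (j '' S) := by
  obtain ⟨ι, fin, T, g, him, hc, hdis, hun, hP⟩ := h
  have := him
  refine ⟨ι, fin, T, fun i => g i ≫ j, fun i => inferInstance, fun i => ?_, ?_, ?_,
    fun i => (PF_comp j F (g i)).1 (hP i)⟩
  · rw [range_comp_eq]
    exact (hc i).image_of_isOpenEmbedding j.isOpenEmbedding
  · intro i k hik
    rw [range_comp_eq, range_comp_eq]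
    exact (Set.disjoint_image_iff j.isOpenEmbedding.injective).2 (hdis hik)
  · rw [← hun, Set.image_iUnion]
    exact iUnion_congr fun i => range_comp_eq (g i) j

lemma isCompact_inter_preimage {Y : Scheme.{u}} (f : X ⟶ Y) (W : X.Opens) (V' : Y.Opens)
    (hW : IsAffineOpen W) (hV' : IsAffineOpen V') (hWV : W ≤ f ⁻¹ᵁ V')
    (O : Set Y) (hO : IsOpen O) (hc : IsCompact ((V' : Set Y) ∩ O)) :
    IsCompact ((W : Set X) ∩ f ⁻¹' O) := by
  have : IsAffine W.toScheme := hW
  have : IsAffine V'.toScheme := hV'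
  let r : W.toScheme ⟶ V'.toScheme := f.resLE V' W hWV
  have hr : r ≫ V'.ι = W.ι ≫ f := Scheme.Hom.resLE_comp_ι f hWV
  have hqc : QuasiCompact r := inferInstance
  have h1 : IsCompact (V'.ι ⁻¹' O) := by
    rw [V'.ι.isOpenEmbedding.isEmbedding.isCompact_iff, Set.image_preimage_eq_inter_range,
      Scheme.Opens.range_ι, inter_comm]
    exact hc
  have h2 := hqc.isCompact_preimage _ (hO.preimage V'.ι.continuous) h1
  have h3 : r ⁻¹' (V'.ι ⁻¹' O) = W.ι ⁻¹' (f ⁻¹' O) := by
    ext x
    simp only [mem_preimage]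
    rw [← Scheme.Hom.comp_apply, ← Scheme.Hom.comp_apply, hr]
  rw [h3, W.ι.isOpenEmbedding.isEmbedding.isCompact_iff, Set.image_preimage_eq_inter_range,
      Scheme.Opens.range_ι, inter_comm] at h2
  exact h2

lemma quasiSeparatedSpace_of_isAffineOpen {W : X.Opens} (hW : IsAffineOpen W) :
    QuasiSeparatedSpace (W : Set X) :=
  (isQuasiSeparated_iff_quasiSeparatedSpace _ W.isOpen).1 hW.isQuasiSeparated

lemma compactSpace_of_isAffineOpen {W : X.Opens} (hW : IsAffineOpen W) :
    CompactSpace (W : Set X) :=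
  isCompact_iff_compactSpace.1 hW.isCompact

/-- Pullback of a stratification of an affine open along a morphism, over an affine open of the
source mapping into it. -/
lemma StIn.pull {Y : Scheme.{u}} (f : X ⟶ Y) (F : EtCoh.Ab Y) (W : X.Opens) (V' : Y.Opens)
    (hW : IsAffineOpen W) (hV' : IsAffineOpen V') (hWV : W ≤ f ⁻¹ᵁ V')
    (h : StIn (PF F) (V' : Set Y) (V' : Set Y)) :
    StIn (PF ((EtCoh.pull f).obj F)) (W : Set X) (W : Set X) := by
  obtain ⟨ι, fin, T, g, him, hc, hdis, hun, hP⟩ := h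
  have := him
  have := quasiSeparatedSpace_of_isAffineOpen hW
  have := compactSpace_of_isAffineOpen hV'
  have hmaps : MapsTo f (W : Set X) (V' : Set Y) := fun x hx => hWV hx
  have hr : ∀ i, Set.range (pullback.snd (g i) (W.ι ≫ f) ≫ W.ι) =
      (W : Set X) ∩ f ⁻¹' Set.range (g i) := by
    intro i
    rw [range_comp_eq, Scheme.Pullback.range_snd]
    have : (W.ι ≫ f) ⁻¹' Set.range (g i) = W.ι ⁻¹' (f ⁻¹' Set.range (g i)) := by
      ext x
      simp only [mem_preimage]
      rw [Scheme.Hom.comp_apply]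
    rw [this, Set.image_preimage_eq_inter_range, Scheme.Opens.range_ι, inter_comm]
  refine ⟨ι, fin, fun i => pullback (g i) (W.ι ≫ f),
    fun i => pullback.snd (g i) (W.ι ≫ f) ≫ W.ι, fun i => inferInstance, fun i => ?_, ?_, ?_,
    fun i => ?_⟩
  · rw [hr]
    have h1 : CIn (W : Set X) (f ⁻¹' Set.range (g i)) :=
      CIn.preimage f.continuous hmaps
        (fun O hO hOc => isCompact_inter_preimage f W V' hW hV' hWV O hO hOc) (hc i)
    refine h1.congr ?_
    rw [inter_comm (W : Set X), inter_assoc, inter_self]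
  · intro i k hik
    rw [hr, hr]
    refine Disjoint.mono inter_subset_right inter_subset_right ?_
    exact (hdis hik).preimage f
  · have : (⋃ i, Set.range (pullback.snd (g i) (W.ι ≫ f) ≫ W.ι)) =
        (W : Set X) ∩ f ⁻¹' (⋃ i, Set.range (g i)) := by
      rw [preimage_iUnion, inter_iUnion]
      exact iUnion_congr hr
    rw [this, hun]
    exact inter_eq_left.2 hmaps
  · rw [PF_comp]
    have hcond : (pullback.snd (g i) (W.ι ≫ f) ≫ W.ι) ≫ f =
        pullback.fst (g i) (W.ι ≫ f) ≫ g i := by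
      rw [Category.assoc]
      exact pullback.condition.symm
    have h2 : PF F (pullback.fst (g i) (W.ι ≫ f) ≫ g i) := PF_stable F _ _ (hP i)
    change EtCoh.IsFiniteLocallyConstant _ at h2 ⊢
    rw [hcond]
    exact h2

end Groth.Agent.Lib.Helper22.Strata
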