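import Groth.Agent.Lib.Helper22.Strata.Topology
import Mathlib.AlgebraicGeometry.Morphisms.Immersion
import Mathlib.AlgebraicGeometry.IdealSheaf.Functorial
import Mathlib.AlgebraicGeometry.PullbackCarrier

/-!
# Finite stratifications by immersions (helper22)
-/

set_option autoImplicit false

universe u

open CategoryTheory CategoryTheory.Limits AlgebraicGeometry Set

namespace Groth.Agent.Lib.Helper22.Strata

variable {X : Scheme.{u}}

/-- Properties of morphisms into `X`. -/
abbrev MorProp (X : Scheme.{u}) := ∀ ⦃T : Scheme.{u}⦄, (T ⟶ X) → Prop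

/-- Stability under precomposition. -/
def MorProp.Stable (P : MorProp X) : Prop :=
  ∀ ⦃T T' : Scheme.{u}⦄ (h : T' ⟶ T) (g : T ⟶ X), P g → P (h ≫ g)

/-- A finite partition of `C` into ranges of immersions satisfying `P`, each constructible in the
subspace `V`. -/
def StIn (P : MorProp X) (V C : Set X) : Prop :=
  ∃ (ι : Type) (_ : Finite ι) (T : ι → Scheme.{u}) (g : ∀ i, T i ⟶ X),
    (∀ i, IsImmersion (g i)) ∧ (∀ i, CIn V (Set.range (g i))) ∧
    Pairwise (fun i j => Disjoint (Set.range (g i)) (Set.range (g j))) ∧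
    (⋃ i, Set.range (g i)) = C ∧ ∀ i, P (g i)

lemma StIn.iUnion {κ : Type} [Finite κ] {P : MorProp X} {V : Set X} {C : κ → Set X}
    (hd : Pairwise (fun k l => Disjoint (C k) (C l))) (h : ∀ k, StIn P V (C k)) :
    StIn P V (⋃ k, C k) := by
  choose ι fin T g him hc hdis hun hP using h
  have : ∀ k, Finite (ι k) := fin
  refine ⟨Σ k, ι k, inferInstance, fun p => T p.1 p.2, fun p => g p.1 p.2, fun p => him _ _,
    fun p => hc _ _, ?_, ?_, fun p => hP _ _⟩
  · rintro ⟨k, i⟩ ⟨k', i'⟩ hne
    by_cases hk : k = k'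
    · subst hk
      have : i ≠ i' := fun h => hne (by rw [h])
      exact hdis k this
    · have h1 : Set.range (g k i) ⊆ C k := by rw [← hun k]; exact subset_iUnion (fun i => Set.range (g k i)) i
      have h2 : Set.range (g k' i') ⊆ C k' := by rw [← hun k']; exact subset_iUnion (fun i => Set.range (g k' i)) i'
      exact (hd hk).mono h1 h2
  · rw [Set.iUnion_sigma]
    exact iUnion_congr hun

lemma StIn.inter_range {P : MorProp X} (hP : P.Stable) {V C : Set X} (h : StIn P V C)
    {Z : Scheme.{u}} (z : Z ⟶ X) [IsImmersion z] (hz : CIn V (Set.range z)) :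
    StIn P V (C ∩ Set.range z) := by
  obtain ⟨ι, fin, T, g, him, hc, hdis, hun, hPg⟩ := h
  have := him
  have hr : ∀ i, Set.range (pullback.fst (g i) z ≫ g i) = Set.range (g i) ∩ Set.range z :=
    fun i => Scheme.Pullback.range_fst_comp (g i) z
  refine ⟨ι, fin, fun i => pullback (g i) z, fun i => pullback.fst (g i) z ≫ g i,
    fun i => inferInstance, fun i => ?_, ?_, ?_, fun i => hP _ _ (hPg i)⟩
  · rw [hr]
    exact (hc i).inter hz
  · intro i j hij
    rw [hr, hr]
    exact (hdis hij).mono inter_subset_left inter_subset_left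
  · rw [← hun, iUnion_inter]
    exact iUnion_congr hr

lemma StIn.mono_open {P : MorProp X} {V W C : Set X} [QuasiSeparatedSpace V] (hWV : W ⊆ V)
    (hW : IsOpen W) (hWc : IsCompact W) (hC : C ⊆ W) (h : StIn P W C) : StIn P V C := by
  obtain ⟨ι, fin, T, g, him, hc, hdis, hun, hPg⟩ := h
  refine ⟨ι, fin, T, g, him, fun i => ?_, hdis, hun, hPg⟩
  refine (hc i).mono_open hWV hW hWc ?_
  refine subset_trans ?_ hC
  rw [← hun]
  exact subset_iUnion (fun i => Set.range (g i)) i

lemma StIn.restrict_open {P : MorProp X} {V W C : Set X} (hWV : W ⊆ V) (hW : IsOpen W)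
    (h : StIn P V C) : StIn P W C := by
  obtain ⟨ι, fin, T, g, him, hc, hdis, hun, hPg⟩ := h
  exact ⟨ι, fin, T, g, him, fun i => (hc i).restrict_open hWV hW, hdis, hun, hPg⟩

/-- A closed immersion with prescribed closed range. -/
lemma exists_closedImmersion_range (Z : Set X) (hZ : IsClosed Z) :
    ∃ (T : Scheme.{u}) (z : T ⟶ X), IsClosedImmersion z ∧ Set.range z = Z := by
  refine ⟨_, (Scheme.IdealSheafData.vanishingIdeal ⟨Z, hZ⟩).subschemeι, inferInstance, ?_⟩
  rw [Scheme.IdealSheafData.range_subschemeι, Scheme.IdealSheafData.coe_support_vanishingIdeal]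
  rfl

/-- **Gluing stratifications along a finite cover by quasi-compact opens.** -/
theorem StIn.of_finite_open_cover {P : MorProp X} (hP : P.Stable) {n : ℕ} (W : Fin n → Set X)
    {V : Set X} [QuasiSeparatedSpace V] (hV : V = ⋃ k, W k) (hWo : ∀ k, IsOpen (W k))
    (hWc : ∀ k, IsCompact (W k)) (h : ∀ k, StIn P (W k) (W k)) : StIn P V V := by
  -- the union of the earlier members
  let O : Fin n → Set X := fun k => ⋃ l : {l : Fin n // l < k}, W l.1
  have hOo : ∀ k, IsOpen (O k) := fun k => isOpen_iUnion fun l => hWo l.1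
  have hOc : ∀ k, IsCompact (O k) := fun k => isCompact_iUnion fun l => hWc l.1
  have hWV : ∀ k, W k ⊆ V := fun k => by rw [hV]; exact subset_iUnion W k
  have hOV : ∀ k, O k ⊆ V := fun k => iUnion_subset fun l => hWV l.1
  have hCIn : ∀ k, CIn V (O k)ᶜ := fun k =>
    (CIn.of_isOpen_isCompact (hOo k) (by rw [inter_eq_right.2 (hOV k)]; exact hOc k)).compl
  have hpiece : ∀ k, StIn P V (W k ∩ (O k)ᶜ) := by
    intro k
    obtain ⟨T, z, hz, hzr⟩ := exists_closedImmersion_range (O k)ᶜ (hOo k).isClosed_compl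
    have h1 : StIn P V (W k) := (h k).mono_open (hWV k) (hWo k) (hWc k) subset_rfl
    have := h1.inter_range hP z (by rw [hzr]; exact hCIn k)
    rwa [hzr] at this
  have hdisj : Pairwise (fun k l : Fin n => Disjoint (W k ∩ (O k)ᶜ) (W l ∩ (O l)ᶜ)) := by
    have key : ∀ k l : Fin n, k < l → Disjoint (W k ∩ (O k)ᶜ) (W l ∩ (O l)ᶜ) := by
      intro k l hkl
      rw [Set.disjoint_left]
      rintro x ⟨hxk, -⟩ ⟨-, hxl⟩
      exact hxl (mem_iUnion.2 ⟨⟨k, hkl⟩, hxk⟩)
    intro k l hkl
    rcases lt_or_gt_of_ne hkl with h | h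
    · exact key k l h
    · exact (key l k h).symm
  have hunion : (⋃ k, W k ∩ (O k)ᶜ) = V := by
    apply subset_antisymm
    · exact iUnion_subset fun k => inter_subset_left.trans (hWV k)
    · intro x hx
      rw [hV, mem_iUnion] at hx
      classical
      let s : Finset (Fin n) := Finset.univ.filter fun k => x ∈ W k
      have hs : s.Nonempty := by
        obtain ⟨k, hk⟩ := hx
        exact ⟨k, by simp [s, hk]⟩
      have hmem : x ∈ W (s.min' hs) := by
        have := Finset.min'_mem s hs
        simpa [s] using this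
      refine mem_iUnion.2 ⟨s.min' hs, hmem, ?_⟩
      intro hxO
      obtain ⟨⟨l, hl⟩, hxl⟩ := mem_iUnion.1 hxO
      have hls : l ∈ s := by simp [s, hxl]
      exact absurd (Finset.min'_le s l hls) (not_le.2 hl)
  have := StIn.iUnion hdisj hpiece
  rwa [hunion] at this

end Groth.Agent.Lib.Helper22.Strata
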