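import Mathlib.Topology.Spectral.ConstructibleTopology
import Mathlib.Topology.Constructible
import Mathlib.Topology.QuasiSeparated

/-!
# Constructible sets in spectral spaces: finite subcovers, compactness, images (helper22)
-/

set_option autoImplicit false

open Set Topology

namespace Groth.Agent.Lib.Helper22.Strata

variable {X : Type*} [TopologicalSpace X]

/-- Constructible sets are clopen in the constructible topology. -/
lemma isOpen_constructibleTopology_of_isConstructible [CompactSpace X] {s : Set X}
    (hs : IsConstructible s) :
    IsOpen[constructibleTopology X] s ∧ IsOpen[constructibleTopology X] sᶜ := by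
  induction hs using IsConstructible.empty_union_induction with
  | open_retrocompact U hUo hUc =>
    have hc : IsCompact U := hUc.isCompact
    exact ⟨hc.isOpen_constructibleTopology_of_isOpen hUo,
      IsCompact.isOpen_constructibleTopology_of_isClosed (by rwa [compl_compl]) hUo.isClosed_compl⟩
  | union s hs t ht ihs iht =>
    refine ⟨?_, ?_⟩
    · let _ := constructibleTopology X
      exact IsOpen.union ihs.1 iht.1
    · rw [compl_union]
      let _ := constructibleTopology X
      exact IsOpen.inter ihs.2 iht.2
  | compl s hs ih =>
    exact ⟨ih.2, by rw [compl_compl]; exact ih.1⟩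

/-- A cover of a spectral space by constructible sets has a finite subcover. -/
lemma exists_finite_subcover_of_isConstructible [CompactSpace X] [QuasiSober X]
    [PrespectralSpace X] [QuasiSeparatedSpace X] {ι : Type*} (s : ι → Set X)
    (hs : ∀ i, IsConstructible (s i)) (hcov : (⋃ i, s i) = univ) :
    ∃ t : Finset ι, (⋃ i ∈ t, s i) = univ := by
  let S : ι → Set (WithConstructibleTopology X) := fun i => WithTopology.ofTopology ⁻¹' s i
  have hopen : ∀ i, IsOpen (S i) := fun i =>
    (WithConstructibleTopology.isOpen_iff).2 (isOpen_constructibleTopology_of_isConstructible (hs i)).1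
  have hcover : (univ : Set (WithConstructibleTopology X)) ⊆ ⋃ i, S i := by
    intro x _
    have : WithTopology.ofTopology x ∈ ⋃ i, s i := by rw [hcov]; trivial
    obtain ⟨i, hi⟩ := mem_iUnion.1 this
    exact mem_iUnion.2 ⟨i, hi⟩
  obtain ⟨t, ht⟩ := isCompact_univ.elim_finite_subcover S hopen hcover
  refine ⟨t, eq_univ_of_forall fun x => ?_⟩
  have := ht (mem_univ (WithTopology.toTopology _ x))
  simp only [mem_iUnion] at this ⊢
  obtain ⟨i, hi, hx⟩ := this
  exact ⟨i, hi, hx⟩

/-- The original topology is coarser than the constructible topology. -/
lemma isOpen_constructibleTopology_of_isOpen [PrespectralSpace X] {O : Set X} (hO : IsOpen O) :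
    IsOpen[constructibleTopology X] O := by
  obtain ⟨B, hB, rfl⟩ := PrespectralSpace.isTopologicalBasis.open_eq_sUnion hO
  have key : ∀ U ∈ B, IsOpen[constructibleTopology X] U := fun U hU =>
    (hB hU).2.isOpen_constructibleTopology_of_isOpen (hB hU).1
  let _ := constructibleTopology X
  exact isOpen_sUnion key

/-- Constructible subsets of a spectral space are compact. -/
lemma isCompact_of_isConstructible [CompactSpace X] [QuasiSober X]
    [PrespectralSpace X] [QuasiSeparatedSpace X] {s : Set X} (hs : IsConstructible s) :
    IsCompact s := by
  have hcW : IsCompact (WithTopology.ofTopology ⁻¹' s : Set (WithConstructibleTopology X)) := by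
    refine IsClosed.isCompact ?_
    rw [← isOpen_compl_iff]
    exact (WithConstructibleTopology.isOpen_iff).2
      (isOpen_constructibleTopology_of_isConstructible hs).2
  have hcont : Continuous (WithTopology.ofTopology :
      WithConstructibleTopology X → X) := by
    refine ⟨fun O hO => ?_⟩
    exact (WithConstructibleTopology.isOpen_iff).2 (isOpen_constructibleTopology_of_isOpen hO)
  have := hcW.image hcont
  rwa [image_preimage_eq _ (WithTopology.ofTopology_surjective _)] at this

/-- The image of a constructible set under an embedding with constructible range into a spectral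
space is constructible. -/
lemma IsConstructible.image_of_isEmbedding_of_range {T : Type*} [TopologicalSpace T]
    [CompactSpace X] [QuasiSober X] [PrespectralSpace X] [QuasiSeparatedSpace X]
    {g : T → X} (hg : IsEmbedding g) (hr : IsConstructible (range g)) {C : Set T}
    (hC : IsConstructible C) : IsConstructible (g '' C) := by
  have hT : CompactSpace T := by
    have := isCompact_of_isConstructible hr
    exact ⟨by rwa [hg.isCompact_iff, image_univ]⟩
  induction hC using IsConstructible.empty_union_induction with
  | open_retrocompact U hUo hUc =>
    have hc : IsCompact U := hUc.isCompact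
    obtain ⟨O, hO, rfl⟩ := hg.isInducing.isOpen_iff.1 hUo
    -- cover `g '' (g ⁻¹' O)` by finitely many compact opens inside `O`
    have hcomp : IsCompact (g '' (g ⁻¹' O)) := hc.image hg.continuous
    obtain ⟨B, hB, rfl⟩ := PrespectralSpace.isTopologicalBasis.open_eq_sUnion hO
    obtain ⟨t, ht⟩ := hcomp.elim_finite_subcover (fun V : B => (V : Set X))
      (fun V => (hB V.2).1) (by
        rw [image_preimage_eq_inter_range, sUnion_eq_iUnion]
        exact inter_subset_left)
    let O' : Set X := ⋃ V ∈ t, (V : Set X)
    have hO'o : IsOpen O' := isOpen_biUnion fun V _ => (hB V.2).1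
    have hO'c : IsCompact O' := t.isCompact_biUnion fun V _ => (hB V.2).2
    have hO'sub : O' ⊆ ⋃₀ B := by
      intro x hx
      simp only [O', mem_iUnion] at hx
      obtain ⟨V, -, hxV⟩ := hx
      exact mem_sUnion.2 ⟨V, V.2, hxV⟩
    have heq : g '' (g ⁻¹' ⋃₀ B) = range g ∩ O' := by
      apply subset_antisymm
      · intro x hx
        exact ⟨image_subset_range _ _ hx, ht hx⟩
      · rw [image_preimage_eq_inter_range, inter_comm]
        exact inter_subset_inter_left _ hO'sub
    rw [heq]
    exact hr.inter (hO'c.isConstructible hO'o)
  | union s hs t ht ihs iht =>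
    rw [image_union]
    exact ihs.union iht
  | compl s hs ih =>
    rw [image_compl_eq_range_sdiff_image hg.injective]
    exact hr.sdiff ih

end Groth.Agent.Lib.Helper22.Strata
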