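import Groth.Agent.Lib.Helper22.Strata.Refine
import Groth.Agent.Lib.Helper22.Strata.ConsTop

/-!
# Cutting stratifications by constructible sets; transport along immersions (helper22)
-/

set_option autoImplicit false
universe u
open CategoryTheory CategoryTheory.Limits AlgebraicGeometry Opposite

namespace Groth.Agent.Lib.Helper22.Strata

open Set Topology

section Top

variable {X : Type*} [TopologicalSpace X]

lemma CIn_univ_iff {A : Set X} : CIn (univ : Set X) A ↔ IsConstructible A := by
  have hemb : IsOpenEmbedding (Subtype.val : ↥(univ : Set X) → X) :=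
    isOpen_univ.isOpenEmbedding_subtypeVal
  have hr : range (Subtype.val : ↥(univ : Set X) → X) = univ := Subtype.range_coe
  exact isConstructible_preimage_iff_of_isOpenEmbedding hemb (by rw [hr]; exact IsRetrocompact.univ)
    (by rw [hr]; exact subset_univ _)

end Top

variable {X : Scheme.{u}}

lemma StIn.union_disjoint {P : MorProp X} {V A B : Set X} (h₁ : StIn P V A) (h₂ : StIn P V B)
    (hd : Disjoint A B) : StIn P V (A ∪ B) := by
  rw [Set.union_eq_iUnion]
  refine StIn.iUnion ?_ ?_
  · intro b b' hbb'
    cases b <;> cases b' <;> simp_all [disjoint_comm]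
  · intro b
    cases b
    · exact h₂
    · exact h₁

lemma quasiSeparatedSpace_univ [QuasiSeparatedSpace X] : QuasiSeparatedSpace (univ : Set X) :=
  (isQuasiSeparated_iff_quasiSeparatedSpace _ isOpen_univ).1 isQuasiSeparated_univ

/-- **Cutting a stratification by a constructible set.** -/
theorem StIn.inter_constructible' [CompactSpace X] [QuasiSeparatedSpace X] {P : MorProp X}
    (hP : P.Stable) {D : Set X} (hD : IsConstructible D) :
    (∀ C, StIn P univ C → StIn P univ (C ∩ D)) ∧ (∀ C, StIn P univ C → StIn P univ (C ∩ Dᶜ)) := by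
  have hqs : QuasiSeparatedSpace (univ : Set X) := quasiSeparatedSpace_univ
  induction hD using IsConstructible.empty_union_induction with
  | open_retrocompact U hUo hUc =>
    have hc : IsCompact U := hUc.isCompact
    have hCU : CIn (univ : Set X) U :=
      CIn.of_isOpen_isCompact hUo (by rw [univ_inter]; exact hc)
    constructor
    · intro C hC
      let Uo : X.Opens := ⟨U, hUo⟩
      have := hC.inter_range hP Uo.ι (by rw [Scheme.Opens.range_ι]; exact hCU)
      rwa [Scheme.Opens.range_ι] at this
    · intro C hC
      obtain ⟨T, z, hz, hzr⟩ := exists_closedImmersion_range Uᶜ hUo.isClosed_compl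
      have := hC.inter_range hP z (by rw [hzr]; exact hCU.compl)
      rwa [hzr] at this
  | union s hs t ht ihs iht =>
    constructor
    · intro C hC
      have h1 := ihs.1 C hC
      have h2 := iht.1 _ (ihs.2 C hC)
      have := h1.union_disjoint h2 (by
        rw [Set.disjoint_left]
        rintro x ⟨-, hxs⟩ ⟨⟨-, hxs'⟩, -⟩
        exact hxs' hxs)
      convert this using 1
      ext x
      simp only [mem_inter_iff, mem_union, mem_compl_iff]
      tauto
    · intro C hC
      have := iht.2 _ (ihs.2 C hC)
      convert this using 1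
      ext x
      simp only [mem_inter_iff, mem_union, mem_compl_iff]
      tauto
  | compl s hs ih =>
    exact ⟨ih.2, by rw [compl_compl]; exact ih.1⟩

theorem StIn.inter_constructible [CompactSpace X] [QuasiSeparatedSpace X] {P : MorProp X}
    (hP : P.Stable) {C D : Set X} (hD : IsConstructible D) (hC : StIn P univ C) :
    StIn P univ (C ∩ D) :=
  (StIn.inter_constructible' hP hD).1 C hC

/-- Transport of a stratification along an immersion with constructible range. -/
theorem StIn.of_immersion [CompactSpace X] [QuasiSeparatedSpace X] {T : Scheme.{u}} (g : T ⟶ X)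
    [IsImmersion g] (hr : IsConstructible (Set.range g)) (F : EtCoh.Ab X)
    (h : StIn (PF ((EtCoh.pull g).obj F)) (univ : Set T) (univ : Set T)) :
    StIn (PF F) (univ : Set X) (Set.range g) := by
  obtain ⟨ι, fin, S, k, him, hc, hdis, hun, hPk⟩ := h
  have := him
  have hemb : IsEmbedding g := g.isEmbedding
  refine ⟨ι, fin, S, fun i => k i ≫ g, fun i => inferInstance, fun i => ?_, ?_, ?_,
    fun i => (PF_comp g F (k i)).1 (hPk i)⟩
  · rw [range_comp_eq, CIn_univ_iff]
    exact IsConstructible.image_of_isEmbedding_of_range hemb hr (CIn_univ_iff.1 (hc i))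
  · intro i j hij
    rw [range_comp_eq, range_comp_eq]
    exact (Set.disjoint_image_iff hemb.injective).2 (hdis hij)
  · rw [← image_univ, ← hun, Set.image_iUnion]
    exact iUnion_congr fun i => range_comp_eq (k i) g

/-- **Gluing stratifications along a finite cover by constructible sets.** -/
theorem StIn.of_finite_constructible_cover [CompactSpace X] [QuasiSeparatedSpace X]
    {P : MorProp X} (hP : P.Stable) {n : ℕ} (r : Fin n → Set X)
    (hr : ∀ k, IsConstructible (r k)) (hcov : (⋃ k, r k) = univ)
    (h : ∀ k, StIn P (univ : Set X) (r k)) : StIn P (univ : Set X) (univ : Set X) := by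
  let O : Fin n → Set X := fun k => ⋃ l : {l : Fin n // l < k}, r l.1
  have hO : ∀ k, IsConstructible (O k) := fun k => IsConstructible.iUnion fun l => hr l.1
  have hpiece : ∀ k, StIn P (univ : Set X) (r k ∩ (O k)ᶜ) := fun k =>
    StIn.inter_constructible hP (hO k).compl (h k)
  have hdisj : Pairwise (fun k l : Fin n => Disjoint (r k ∩ (O k)ᶜ) (r l ∩ (O l)ᶜ)) := by
    have key : ∀ k l : Fin n, k < l → Disjoint (r k ∩ (O k)ᶜ) (r l ∩ (O l)ᶜ) := by
      intro k l hkl
      rw [Set.disjoint_left]
      rintro x ⟨hxk, -⟩ ⟨-, hxl⟩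
      exact hxl (mem_iUnion.2 ⟨⟨k, hkl⟩, hxk⟩)
    intro k l hkl
    rcases lt_or_gt_of_ne hkl with h | h
    · exact key k l h
    · exact (key l k h).symm
  have hunion : (⋃ k, r k ∩ (O k)ᶜ) = univ := by
    apply eq_univ_of_forall
    intro x
    have hx : x ∈ ⋃ k, r k := by rw [hcov]; trivial
    rw [mem_iUnion] at hx
    classical
    let s : Finset (Fin n) := Finset.univ.filter fun k => x ∈ r k
    have hs : s.Nonempty := by
      obtain ⟨k, hk⟩ := hx
      exact ⟨k, by simp [s, hk]⟩
    have hmem : x ∈ r (s.min' hs) := by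
      have := Finset.min'_mem s hs
      simpa [s] using this
    refine mem_iUnion.2 ⟨s.min' hs, hmem, ?_⟩
    intro hxO
    obtain ⟨⟨l, hl⟩, hxl⟩ := mem_iUnion.1 hxO
    have hls : l ∈ s := by simp [s, hxl]
    exact absurd (Finset.min'_le s l hls) (not_le.2 hl)
  have := StIn.iUnion hdisj hpiece
  rwa [hunion] at this

end Groth.Agent.Lib.Helper22.Strata
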