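import Groth.Agent.Lib.Helper22.Strata.Adapted

/-!
# Constructible abelian étale sheaves: pullback, open covers, global strata (helper22)
-/

set_option autoImplicit false

universe u

open CategoryTheory CategoryTheory.Limits AlgebraicGeometry Set TopologicalSpace

namespace Groth.Agent.Lib.Helper22.Strata

variable {X : Scheme.{u}}

/-- A compact open covered locally by affine opens with property `Q` is a finite union of
such. -/
lemma exists_finite_affine_cover (V : X.Opens) (hV : IsCompact (V : Set X)) (Q : X.Opens → Prop)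
    (h : ∀ x ∈ V, ∃ W : X.Opens, IsAffineOpen W ∧ x ∈ W ∧ W ≤ V ∧ Q W) :
    ∃ (n : ℕ) (W : Fin n → X.Opens), (∀ k, IsAffineOpen (W k)) ∧ (∀ k, Q (W k)) ∧
      (V : Set X) = ⋃ k, (W k : Set X) := by
  choose W hWa hxW hWV hQ using h
  obtain ⟨t, ht⟩ := hV.elim_finite_subcover (fun x : V => (W x.1 x.2 : Set X))
    (fun x => (W x.1 x.2).isOpen) (fun x hx => mem_iUnion.2 ⟨⟨x, hx⟩, hxW x hx⟩)
  let e : t ≃ Fin t.card := t.equivFin
  refine ⟨t.card, fun k => W (e.symm k).1.1 (e.symm k).1.2, fun k => hWa _ _, fun k => hQ _ _, ?_⟩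
  apply subset_antisymm
  · intro x hx
    obtain ⟨y, hy⟩ := mem_iUnion.1 (ht hx)
    obtain ⟨hyt, hxy⟩ := mem_iUnion.1 hy
    refine mem_iUnion.2 ⟨e ⟨y, hyt⟩, ?_⟩
    simpa using hxy
  · exact iUnion_subset fun k => hWV _ _

/-- Constructibility is local for open covers (S0129). -/
theorem isConstructible_of_open_cover (F : EtCoh.Ab X) {ι : Type u} (U : ι → X.Opens)
    (hU : ⨆ i, U i = ⊤)
    (h : ∀ i, EtPBC.IsConstructible ((EtCoh.pull (U i).ι).obj F)) :
    EtPBC.IsConstructible F := by
  intro V hV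
  rw [adaptedStrata_iff]
  have hqs := quasiSeparatedSpace_of_isAffineOpen hV
  obtain ⟨n, W, hWa, hWU, hVW⟩ := exists_finite_affine_cover V hV.isCompact
    (fun W => ∃ i, W ≤ U i) (by
      intro x hx
      have hxU : x ∈ ⨆ i, U i := by rw [hU]; trivial
      obtain ⟨i, hxi⟩ := Opens.mem_iSup.1 hxU
      obtain ⟨W, hW, hxW, hWle⟩ := Opens.isBasis_iff_nbhd.1 X.isBasis_affineOpens
        (show x ∈ V ⊓ U i from ⟨hx, hxi⟩)
      exact ⟨W, hW, hxW, hWle.trans inf_le_left, i, hWle.trans inf_le_right⟩)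
  refine StIn.of_finite_open_cover (PF_stable F) (fun k => (W k : Set X)) hVW
    (fun k => (W k).isOpen) (fun k => (hWa k).isCompact) (fun k => ?_)
  obtain ⟨i, hi⟩ := hWU k
  have hle : W k ≤ (U i).ι.opensRange := by rw [Scheme.Opens.opensRange_ι]; exact hi
  have haff : IsAffineOpen ((U i).ι ⁻¹ᵁ W k) := (hWa k).preimage_of_isOpenImmersion (U i).ι hle
  have h1 := (adaptedStrata_iff _ _).1 (h i _ haff)
  have h2 := h1.of_openImmersion (U i).ι F
  have himg : (U i).ι '' (((U i).ι ⁻¹ᵁ W k : (U i).toScheme.Opens) : Set (U i).toScheme) =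
      (W k : Set X) := by
    have := congrArg (fun O : X.Opens => (O : Set X))
      ((U i).ι.image_preimage_eq_opensRange_inf (W k))
    simp only [Scheme.Hom.coe_image] at this
    rw [this, inf_eq_right.2 hle]
  rwa [himg] at h2

/-- On a qcqs scheme, constructible iff there is a global adapted stratification (S0128). -/
theorem isConstructible_iff_strata_univ [CompactSpace X] [QuasiSeparatedSpace X]
    (F : EtCoh.Ab X) :
    EtPBC.IsConstructible F ↔ EtPBC.AdaptedStrata F (Set.univ : Set X) := by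
  have hqs : QuasiSeparatedSpace (Set.univ : Set X) :=
    (isQuasiSeparated_iff_quasiSeparatedSpace _ isOpen_univ).1 isQuasiSeparated_univ
  rw [adaptedStrata_iff]
  constructor
  · intro hF
    obtain ⟨n, W, hWa, -, hVW⟩ := exists_finite_affine_cover (⊤ : X.Opens)
      (by simpa using CompactSpace.isCompact_univ (X := X)) (fun _ => True) (by
        intro x hx
        obtain ⟨W, hW, hxW, hWle⟩ := Opens.isBasis_iff_nbhd.1 X.isBasis_affineOpens
          (show x ∈ (⊤ : X.Opens) from hx)
        exact ⟨W, hW, hxW, hWle, trivial⟩)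
    have hVW' : (Set.univ : Set X) = ⋃ k, (W k : Set X) := by simpa using hVW
    exact StIn.of_finite_open_cover (PF_stable F) (fun k => (W k : Set X)) hVW'
      (fun k => (W k).isOpen) (fun k => (hWa k).isCompact)
      (fun k => (adaptedStrata_iff _ _).1 (hF (W k) (hWa k)))
  · intro h V hV
    rw [adaptedStrata_iff]
    have hc : CIn (Set.univ : Set X) (Set.range V.ι) := by
      rw [Scheme.Opens.range_ι]
      exact CIn.of_isOpen_isCompact V.isOpen (by rw [univ_inter]; exact hV.isCompact)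
    have h1 := h.inter_range (PF_stable F) V.ι hc
    rw [univ_inter, Scheme.Opens.range_ι] at h1
    exact h1.restrict_open (subset_univ _) V.isOpen

/-- The pullback of a constructible abelian sheaf is constructible (S0127). -/
theorem isConstructible_pull {Y : Scheme.{u}} (f : X ⟶ Y) (F : EtCoh.Ab Y)
    (hF : EtPBC.IsConstructible F) : EtPBC.IsConstructible ((EtCoh.pull f).obj F) := by
  intro V hV
  rw [adaptedStrata_iff]
  have hqs := quasiSeparatedSpace_of_isAffineOpen hV
  obtain ⟨n, W, hWa, hWQ, hVW⟩ := exists_finite_affine_cover V hV.isCompact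
    (fun W => ∃ V' : Y.Opens, IsAffineOpen V' ∧ W ≤ f ⁻¹ᵁ V') (by
      intro x hx
      obtain ⟨V', hV', hxV', -⟩ := Opens.isBasis_iff_nbhd.1 Y.isBasis_affineOpens
        (show f x ∈ (⊤ : Y.Opens) from trivial)
      obtain ⟨W, hW, hxW, hWle⟩ := Opens.isBasis_iff_nbhd.1 X.isBasis_affineOpens
        (show x ∈ V ⊓ f ⁻¹ᵁ V' from ⟨hx, hxV'⟩)
      exact ⟨W, hW, hxW, hWle.trans inf_le_left, V', hV', hWle.trans inf_le_right⟩)
  refine StIn.of_finite_open_cover (PF_stable _) (fun k => (W k : Set X)) hVW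
    (fun k => (W k).isOpen) (fun k => (hWa k).isCompact) (fun k => ?_)
  obtain ⟨V', hV', hle⟩ := hWQ k
  exact StIn.pull f F (W k) V' (hWa k) hV' hle ((adaptedStrata_iff _ _).1 (hF V' hV'))

end Groth.Agent.Lib.Helper22.Strata
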