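import Groth.Agent.Lib.Helper22.Strata.Main

/-!
# Common refinements of stratifications (helper22)
-/

set_option autoImplicit false
universe u
open CategoryTheory CategoryTheory.Limits AlgebraicGeometry Opposite

namespace Groth.Agent.Lib.Helper22.Strata

open Set

variable {X : Scheme.{u}}

/-- Common refinement of two stratifications. -/
lemma StIn.inter₂ {P Q : MorProp X} (hP : P.Stable) (hQ : Q.Stable) {V C C' : Set X}
    (h : StIn P V C) (h' : StIn Q V C') :
    StIn (fun _ g => P g ∧ Q g) V (C ∩ C') := by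
  obtain ⟨ι, fin, T, g, him, hc, hdis, hun, hPg⟩ := h
  obtain ⟨ι', fin', T', g', him', hc', hdis', hun', hQg⟩ := h'
  have := him
  have := him'
  have hr : ∀ p : ι × ι', Set.range (pullback.fst (g p.1) (g' p.2) ≫ g p.1) =
      Set.range (g p.1) ∩ Set.range (g' p.2) :=
    fun p => Scheme.Pullback.range_fst_comp (g p.1) (g' p.2)
  refine ⟨ι × ι', inferInstance, fun p => pullback (g p.1) (g' p.2),
    fun p => pullback.fst (g p.1) (g' p.2) ≫ g p.1,
    fun p => inferInstance, fun p => ?_, ?_, ?_, fun p => ⟨hP _ _ (hPg p.1), ?_⟩⟩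
  · rw [hr]
    exact (hc p.1).inter (hc' p.2)
  · rintro ⟨i, j⟩ ⟨i', j'⟩ hne
    rw [hr, hr]
    by_cases hi : i = i'
    · subst hi
      have hj : j ≠ j' := fun h => hne (by rw [h])
      exact (hdis' hj).mono inter_subset_right inter_subset_right
    · exact (hdis hi).mono inter_subset_left inter_subset_left
  · rw [← hun, ← hun', iUnion_inter_iUnion]
    rw [Set.iUnion_prod']
    exact iUnion_congr fun i => iUnion_congr fun j => hr (i, j)
  · change Q (pullback.fst (g p.1) (g' p.2) ≫ g p.1)
    rw [pullback.condition]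
    exact hQ _ _ (hQg p.2)

lemma StIn.mono_prop {P Q : MorProp X} (hPQ : ∀ ⦃T : Scheme.{u}⦄ (g : T ⟶ X), P g → Q g)
    {V C : Set X} (h : StIn P V C) : StIn Q V C := by
  obtain ⟨ι, fin, T, g, him, hc, hdis, hun, hPg⟩ := h
  exact ⟨ι, fin, T, g, him, hc, hdis, hun, fun i => hPQ _ (hPg i)⟩

end Groth.Agent.Lib.Helper22.Strata
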