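import Groth.Agent.Lib.Helper22.Strata.Cutter
import Groth.Agent.Lib.Helper22.EtLoc.FlcExt
import Groth.Agent.S0105
import Groth.Agent.S0101
/-!
# Supports of constructible étale sheaves (helper22)
-/

set_option autoImplicit false
universe u
open CategoryTheory CategoryTheory.Limits AlgebraicGeometry Opposite

namespace Groth.Agent.Lib.Helper22.Strata

open Set Topology Groth.Agent.Lib.Helper22.EtStalk Groth.Agent.Lib.Helper22.EtLoc

variable {X : Scheme.{u}}

/-- The range of a geometric point. -/
lemma range_geomPoint {Ω : Type u} [Field Ω] (ξ : Spec (CommRingCat.of Ω) ⟶ X) :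
    Set.range ξ = {ξ (default : Spec (CommRingCat.of Ω))} := by
  ext x
  constructor
  · rintro ⟨p, rfl⟩
    rw [Subsingleton.elim p default]
    rfl
  · rintro rfl
    exact ⟨_, rfl⟩

/-- Membership in the support via the canonical geometric point, given that the stalks at all
geometric points over `x` are isomorphic to a fixed group. -/
lemma mem_supp_iff_of_stalks (F : EtCoh.Ab X) (x : X) (M : AddCommGrpCat.{u + 1})
    (h : ∀ (Ω : Type u) [Field Ω] [IsSepClosed Ω] (ξ : Spec (CommRingCat.of Ω) ⟶ X),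
      ξ (default : Spec (CommRingCat.of Ω)) = x → Nonempty ((EtCoh.stalk ξ).obj F ≅ M)) :
    x ∈ EtPBC.supp F ↔ ¬ IsZero M := by
  constructor
  · rintro ⟨Ω, _, _, ξ, hξ, hnz⟩ hM
    have hx : ξ (default : Spec (CommRingCat.of Ω)) = x := by
      have : ξ (default : Spec (CommRingCat.of Ω)) ∈ Set.range ξ := ⟨_, rfl⟩
      rw [hξ] at this
      exact this
    obtain ⟨e⟩ := h Ω ξ hx
    exact hnz (hM.of_iso e)
  · intro hM
    refine ⟨_, inferInstance, inferInstance, Groth.Agent.S0105.gpt x, ?_, ?_⟩
    · rw [range_geomPoint, Groth.Agent.S0105.gpt_default]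
    · intro hz
      obtain ⟨e⟩ := h _ (Groth.Agent.S0105.gpt x) (Groth.Agent.S0105.gpt_default x)
      exact hM (hz.of_iso e.symm)

/-- The support of a finite locally constant sheaf is open and closed. -/
theorem isClopen_supp_of_flc (G : EtCoh.Ab X) (hG : EtCoh.IsFiniteLocallyConstant G) :
    IsClopen (EtPBC.supp G) := by
  obtain ⟨ι, U, hU, hM⟩ := hG
  choose M i1 i2 e using hM
  have hst : ∀ (k : ι) (y : (U k).left) (Ω : Type u) [Field Ω] [IsSepClosed Ω]
      (ξ : Spec (CommRingCat.of Ω) ⟶ X), ξ (default : Spec (CommRingCat.of Ω)) = (U k).hom y →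
      Nonempty ((EtCoh.stalk ξ).obj G ≅ AddCommGrpCat.of (ULift.{u + 1} (M k))) := by
    intro k y Ω _ _ ξ hξ
    obtain ⟨v, -⟩ := Scheme.pointSmallEtaleFiberObjToPreimage_surjective ξ hξ (U k) ⟨y, rfl⟩
    exact Groth.Agent.S0105.stalk_iso_of_restr G (U k) _ (e k) ξ v.left (Over.w v)
  have hmem : ∀ (k : ι) (y : (U k).left), (U k).hom y ∈ EtPBC.supp G ↔
      ¬ IsZero (AddCommGrpCat.of (ULift.{u + 1} (M k))) := fun k y =>
    mem_supp_iff_of_stalks G _ _ (fun Ω _ _ ξ hξ => hst k y Ω ξ hξ)
  have hopen : ∀ k, IsOpen (Set.range (U k).hom) := fun k => by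
    have : Etale (U k).hom := (U k).prop
    exact (U k).hom.isOpenMap.isOpen_range
  have h1 : EtPBC.supp G = ⋃ k : {k : ι // ¬ IsZero (AddCommGrpCat.of (ULift.{u + 1} (M k)))},
      Set.range (U k.1).hom := by
    ext x
    obtain ⟨k, y, hy⟩ := hU x
    constructor
    · intro hx
      have hy' : (U k).hom y = x := hy
      rw [← hy', hmem] at hx
      exact mem_iUnion.2 ⟨⟨k, hx⟩, y, hy'⟩
    · intro hx
      obtain ⟨⟨k', hk'⟩, y', rfl⟩ := mem_iUnion.1 hx
      exact (hmem k' y').2 hk'
  have h2 : (EtPBC.supp G)ᶜ = ⋃ k : {k : ι // IsZero (AddCommGrpCat.of (ULift.{u + 1} (M k)))},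
      Set.range (U k.1).hom := by
    ext x
    obtain ⟨k, y, hy⟩ := hU x
    have hy' : (U k).hom y = x := hy
    constructor
    · intro hx
      rw [mem_compl_iff, ← hy', hmem, not_not] at hx
      exact mem_iUnion.2 ⟨⟨k, hx⟩, y, hy'⟩
    · intro hx
      obtain ⟨⟨k', hk'⟩, y', rfl⟩ := mem_iUnion.1 hx
      rw [mem_compl_iff, hmem]
      exact not_not.2 hk'
  constructor
  · rw [← isOpen_compl_iff, h2]
    exact isOpen_iUnion fun k => hopen k.1
  · rw [h1]
    exact isOpen_iUnion fun k => hopen k.1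

/-- A geometric point landing in the range of an immersion lifts along it. -/
lemma exists_lift_geomPoint {T : Scheme.{u}} (g : T ⟶ X) [IsImmersion g] {Ω : Type u} [Field Ω]
    (ξ : Spec (CommRingCat.of Ω) ⟶ X) (t : T)
    (ht : g t = ξ (default : Spec (CommRingCat.of Ω))) :
    ∃ ξ' : Spec (CommRingCat.of Ω) ⟶ T, ξ' ≫ g = ξ := by
  let q := pullback.snd g ξ
  have hsurj : Function.Surjective q := by
    intro p
    obtain ⟨z, -, hz⟩ := Scheme.Pullback.exists_preimage_pullback t
      (default : Spec (CommRingCat.of Ω)) ht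
    exact ⟨z, hz.trans (Subsingleton.elim _ _)⟩
  have : Surjective q := ⟨hsurj⟩
  have hcl : IsClosedImmersion q :=
    IsClosedImmersion.of_isPreimmersion q (by rw [hsurj.range_eq]; exact isClosed_univ)
  have : IsIso q := isIso_of_isClosedImmersion_of_surjective q
  refine ⟨inv q ≫ pullback.fst g ξ, ?_⟩
  rw [Category.assoc, pullback.condition, IsIso.inv_hom_id_assoc]

/-- The support of the pullback along an immersion is the preimage of the support. -/
theorem supp_pull_of_isImmersion {T : Scheme.{u}} (g : T ⟶ X) [IsImmersion g] (F : EtCoh.Ab X) :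
    EtPBC.supp ((EtCoh.pull g).obj F) = g ⁻¹' EtPBC.supp F := by
  ext t
  constructor
  · rintro ⟨Ω, _, _, ξ', hξ', hnz⟩
    refine ⟨Ω, inferInstance, inferInstance, ξ' ≫ g, ?_, ?_⟩
    · have ht : ξ' (default : Spec (CommRingCat.of Ω)) = t := by
        have : ξ' (default : Spec (CommRingCat.of Ω)) ∈ Set.range ξ' := ⟨_, rfl⟩
        rw [hξ'] at this
        exact this
      rw [range_geomPoint, Scheme.Hom.comp_apply, ht]
    · intro hz
      exact hnz (hz.of_iso ((stalkPullIso g ξ').app F))
  · rintro ⟨Ω, _, _, ξ, hξ, hnz⟩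
    have hx : ξ (default : Spec (CommRingCat.of Ω)) = g t := by
      have : ξ (default : Spec (CommRingCat.of Ω)) ∈ Set.range ξ := ⟨_, rfl⟩
      rw [hξ] at this
      exact this
    obtain ⟨ξ', rfl⟩ := exists_lift_geomPoint g ξ t hx.symm
    refine ⟨Ω, inferInstance, inferInstance, ξ', ?_, ?_⟩
    · rw [range_geomPoint]
      congr 1
      apply g.isEmbedding.injective
      rw [← hx, Scheme.Hom.comp_apply]
    · intro hz
      exact hnz (hz.of_iso ((stalkPullIso g ξ').app F).symm)

/-- **The support of a constructible sheaf is constructible in every affine open.** -/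
theorem CIn_supp (F : EtCoh.Ab X) (hF : EtPBC.IsConstructible F) (V : X.Opens)
    (hV : IsAffineOpen V) : CIn (V : Set X) (EtPBC.supp F) := by
  obtain ⟨ι, fin, T, g, him, hc, hdis, hun, hP⟩ := (adaptedStrata_iff F _).1 (hF V hV)
  have := him
  have hcs : CompactSpace ↥(V : Set X) := compactSpace_of_isAffineOpen hV
  have hqs : QuasiSeparatedSpace ↥(V : Set X) := quasiSeparatedSpace_of_isAffineOpen hV
  have hemb : IsOpenEmbedding (Subtype.val : ↥(V : Set X) → X) := V.isOpen.isOpenEmbedding_subtypeVal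
  have hsob : QuasiSober ↥(V : Set X) := hemb.quasiSober
  have hpre : PrespectralSpace ↥(V : Set X) := hemb.prespectralSpace
  have hsub : ∀ i, Set.range (g i) ⊆ (V : Set X) := fun i => by
    rw [← hun]
    exact subset_iUnion (fun i => Set.range (g i)) i
  have key : ∀ i, CIn (V : Set X) (g i '' EtPBC.supp ((EtCoh.pull (g i)).obj F)) := by
    intro i
    let φ : T i → ↥(V : Set X) := fun t => ⟨g i t, hsub i ⟨t, rfl⟩⟩
    have hφ : IsEmbedding φ := (g i).isEmbedding.codRestrict _ _
    have hrange : Set.range φ = (Subtype.val : ↥(V : Set X) → X) ⁻¹' Set.range (g i) := by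
      ext ⟨x, hx⟩
      constructor
      · rintro ⟨t, ht⟩
        exact ⟨t, congrArg Subtype.val ht⟩
      · rintro ⟨t, ht⟩
        exact ⟨t, Subtype.ext ht⟩
    have hrc : IsConstructible (Set.range φ) := by rw [hrange]; exact hc i
    have hT : CompactSpace (T i) := by
      have := isCompact_of_isConstructible hrc
      exact ⟨by rwa [hφ.isCompact_iff, image_univ]⟩
    have hclopen := isClopen_supp_of_flc _ (hP i)
    have hC : IsConstructible (EtPBC.supp ((EtCoh.pull (g i)).obj F)) :=
      IsRetrocompact.isConstructible hclopen.2 (fun K hK _ => hK.inter_left hclopen.1)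
    have := IsConstructible.image_of_isEmbedding_of_range hφ hrc hC
    have himg : φ '' EtPBC.supp ((EtCoh.pull (g i)).obj F) =
        (Subtype.val : ↥(V : Set X) → X) ⁻¹' (g i '' EtPBC.supp ((EtCoh.pull (g i)).obj F)) := by
      ext ⟨x, hx⟩
      constructor
      · rintro ⟨t, ht, hxt⟩
        exact ⟨t, ht, congrArg Subtype.val hxt⟩
      · rintro ⟨t, ht, hxt⟩
        exact ⟨t, ht, Subtype.ext hxt⟩
    unfold CIn
    rw [← himg]
    exact this
  refine CIn.congr ?_ (CIn.iUnion key)
  have h1 : ∀ i, g i '' EtPBC.supp ((EtCoh.pull (g i)).obj F) = EtPBC.supp F ∩ Set.range (g i) := by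
    intro i
    rw [supp_pull_of_isImmersion, image_preimage_eq_inter_range]
  simp only [h1]
  rw [← inter_iUnion, hun, inter_assoc, inter_self]

/-- Kernels and cokernels of maps of constructible sheaves are constructible. -/
theorem isConstructible_kernel_cokernel {F G : EtCoh.Ab X} (φ : F ⟶ G)
    (hF : EtPBC.IsConstructible F) (hG : EtPBC.IsConstructible G) :
    EtPBC.IsConstructible (kernel φ) ∧ EtPBC.IsConstructible (cokernel φ) := by
  have key : ∀ U : X.Opens, IsAffineOpen U →
      StIn (fun _ g => PF F g ∧ PF G g) (U : Set X) (U : Set X) := by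
    intro U hU
    have h1 := (adaptedStrata_iff F _).1 (hF U hU)
    have h2 := (adaptedStrata_iff G _).1 (hG U hU)
    have := StIn.inter₂ (PF_stable F) (PF_stable G) h1 h2
    rwa [inter_self] at this
  constructor
  · intro U hU
    rw [adaptedStrata_iff]
    refine StIn.mono_prop ?_ (key U hU)
    rintro T g ⟨h1, h2⟩
    have := Groth.Agent.S0101.result g
    have hk := (FlcKer.flc_kernel_cokernel ((EtCoh.pull g).map φ) h1 h2).1
    exact isFiniteLocallyConstant_of_iso (PreservesKernel.iso (EtCoh.pull g) φ).symm hk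
  · intro U hU
    rw [adaptedStrata_iff]
    refine StIn.mono_prop ?_ (key U hU)
    rintro T g ⟨h1, h2⟩
    have : PreservesColimitsOfSize.{0, 0} (EtCoh.pull g) :=
      (EtCoh.pullPushAdj g).leftAdjoint_preservesColimits
    have hk := (FlcKer.flc_kernel_cokernel ((EtCoh.pull g).map φ) h1 h2).2
    exact isFiniteLocallyConstant_of_iso (PreservesCokernel.iso (EtCoh.pull g) φ).symm hk

/-- The support of a constructible sheaf is locally constructible. -/
theorem isLocallyConstructible_supp (F : EtCoh.Ab X) (hF : EtPBC.IsConstructible F) :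
    IsLocallyConstructible (EtPBC.supp F) := by
  intro x
  obtain ⟨V, hV, hxV, -⟩ := TopologicalSpace.Opens.isBasis_iff_nbhd.1 X.isBasis_affineOpens
    (show x ∈ (⊤ : X.Opens) from trivial)
  exact ⟨V, V.isOpen.mem_nhds hxV, V.isOpen, CIn_supp F hF V hV⟩

end Groth.Agent.Lib.Helper22.Strata
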