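import Mathlib.Topology.Constructible
import Mathlib.Topology.QuasiSeparated
import Mathlib.Topology.Homeomorph.Lemmas

/-!
# Constructibility relative to a subspace (helper22)

`CIn S A`: the trace of `A` on the subspace `S` is constructible in `S`.
-/

set_option autoImplicit false

open Set Topology

namespace Groth.Agent.Lib.Helper22.Strata

variable {X Y : Type*} [TopologicalSpace X] [TopologicalSpace Y]

/-- `A` is constructible in the subspace `S`. -/
def CIn (S A : Set X) : Prop := Topology.IsConstructible ((Subtype.val : S → X) ⁻¹' A)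

lemma CIn.congr {S A B : Set X} (h : A ∩ S = B ∩ S) (hA : CIn S A) : CIn S B := by
  have : (Subtype.val : S → X) ⁻¹' A = (Subtype.val : S → X) ⁻¹' B := by
    ext ⟨x, hx⟩
    constructor
    · intro hxA
      have : x ∈ A ∩ S := ⟨hxA, hx⟩
      rw [h] at this
      exact this.1
    · intro hxB
      have : x ∈ B ∩ S := ⟨hxB, hx⟩
      rw [← h] at this
      exact this.1
  unfold CIn
  rw [← this]
  exact hA

lemma CIn.inter {S A B : Set X} (hA : CIn S A) (hB : CIn S B) : CIn S (A ∩ B) :=
  Topology.IsConstructible.inter hA hB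

lemma CIn.union {S A B : Set X} (hA : CIn S A) (hB : CIn S B) : CIn S (A ∪ B) :=
  Topology.IsConstructible.union hA hB

lemma CIn.compl {S A : Set X} (hA : CIn S A) : CIn S Aᶜ :=
  Topology.IsConstructible.compl hA

lemma CIn.iUnion {ι : Type*} [Finite ι] {S : Set X} {A : ι → Set X} (hA : ∀ i, CIn S (A i)) :
    CIn S (⋃ i, A i) := by
  unfold CIn
  rw [preimage_iUnion]
  exact Topology.IsConstructible.iUnion hA

/-- An open subset whose trace on the quasi-separated subspace `V` is compact is constructible
in `V`. -/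
lemma CIn.of_isOpen_isCompact {V O : Set X} [QuasiSeparatedSpace V] (hO : IsOpen O)
    (hc : IsCompact (V ∩ O)) : CIn V O := by
  refine IsCompact.isConstructible ?_ (hO.preimage continuous_subtype_val)
  rw [IsEmbedding.subtypeVal.isCompact_iff, Subtype.image_preimage_coe]
  exact hc

/-- Enlarging the ambient subspace along an open compact subspace. -/
lemma CIn.mono_open {V W A : Set X} [QuasiSeparatedSpace V] (hWV : W ⊆ V) (hW : IsOpen W)
    (hWc : IsCompact W) (hA : A ⊆ W) (h : CIn W A) : CIn V A := by
  have hemb : IsOpenEmbedding (inclusion hWV) :=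
    IsOpenEmbedding.inclusion hWV (hW.preimage continuous_subtype_val)
  have hrange : range (inclusion hWV) = (Subtype.val : V → X) ⁻¹' W := range_inclusion hWV
  have hretro : IsRetrocompact (range (inclusion hWV)) := by
    rw [hrange]
    refine IsCompact.isRetrocompact ?_ (hW.preimage continuous_subtype_val)
    rw [IsEmbedding.subtypeVal.isCompact_iff, Subtype.image_preimage_coe,
      inter_eq_right.2 hWV]
    exact hWc
  have := Topology.IsConstructible.image_of_isOpenEmbedding hemb hretro h
  have himg : inclusion hWV '' ((Subtype.val : W → X) ⁻¹' A) = (Subtype.val : V → X) ⁻¹' A := by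
    ext ⟨x, hx⟩
    constructor
    · rintro ⟨⟨y, hy⟩, hyA, hxy⟩
      have : y = x := congrArg Subtype.val hxy
      subst this
      exact hyA
    · intro hxA
      exact ⟨⟨x, hA hxA⟩, hxA, rfl⟩
  unfold CIn
  rw [← himg]
  exact this

/-- Shrinking the ambient subspace to an open subspace. -/
lemma CIn.restrict_open {V W A : Set X} (hWV : W ⊆ V) (hW : IsOpen W) (h : CIn V A) :
    CIn W A := by
  have hemb : IsOpenEmbedding (inclusion hWV) :=
    IsOpenEmbedding.inclusion hWV (hW.preimage continuous_subtype_val)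
  have := Topology.IsConstructible.preimage_of_isOpenEmbedding hemb (s := (Subtype.val : V → X) ⁻¹' A) h
  exact this

/-- Transport along an open embedding. -/
lemma CIn.image_of_isOpenEmbedding {f : Y → X} (hf : IsOpenEmbedding f) {S A : Set Y}
    (h : CIn S A) : CIn (f '' S) (f '' A) := by
  let φ : S → f '' S := fun y => ⟨f y.1, mem_image_of_mem f y.2⟩
  have hφemb : IsEmbedding φ :=
    (hf.isEmbedding.comp IsEmbedding.subtypeVal).codRestrict _ _
  have hφsurj : Function.Surjective φ := by
    rintro ⟨_, ⟨y, hy, rfl⟩⟩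
    exact ⟨⟨y, hy⟩, rfl⟩
  have hφ : IsOpenEmbedding φ := ⟨hφemb, by rw [hφsurj.range_eq]; exact isOpen_univ⟩
  have hretro : IsRetrocompact (range φ) := by rw [hφsurj.range_eq]; exact IsRetrocompact.univ
  have := Topology.IsConstructible.image_of_isOpenEmbedding hφ hretro h
  have himg : φ '' ((Subtype.val : S → Y) ⁻¹' A) = (Subtype.val : (f '' S) → X) ⁻¹' (f '' A) := by
    ext ⟨x, hx⟩
    constructor
    · rintro ⟨⟨y, hy⟩, hyA, hxy⟩
      have : f y = x := congrArg Subtype.val hxy
      exact ⟨y, hyA, this⟩
    · rintro ⟨y, hyA, hyx⟩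
      obtain ⟨y', hy'S, hy'x⟩ := hx
      have : y = y' := hf.injective (hyx.trans hy'x.symm)
      subst this
      exact ⟨⟨y, hy'S⟩, hyA, Subtype.ext hyx⟩
  unfold CIn
  rw [← himg]
  exact this

/-- Pullback along a continuous map which is "spectral" from `W` to `V'`. -/
lemma CIn.preimage {f : X → Y} (hf : Continuous f) {W : Set X} {V' : Set Y}
    (hWV : MapsTo f W V') [QuasiSeparatedSpace W] [CompactSpace V']
    (hcomp : ∀ O : Set Y, IsOpen O → IsCompact (V' ∩ O) → IsCompact (W ∩ f ⁻¹' O))
    {A : Set Y} (h : CIn V' A) : CIn W (f ⁻¹' A) := by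
  let φ : W → V' := hWV.restrict f W V'
  have hφ : Continuous φ := hf.restrict hWV
  refine Topology.IsConstructible.preimage (f := φ) hφ ?_ h
  intro s hs hsr
  have hsc : IsCompact s := hsr.isCompact
  obtain ⟨O, hO, rfl⟩ := isOpen_induced_iff.1 hs
  have h1 : IsCompact (V' ∩ O) := by
    rw [IsEmbedding.subtypeVal.isCompact_iff, Subtype.image_preimage_coe] at hsc
    exact hsc
  have h2 := hcomp O hO h1
  have h3 : φ ⁻¹' ((Subtype.val : V' → Y) ⁻¹' O) = (Subtype.val : W → X) ⁻¹' (f ⁻¹' O) := rfl
  rw [h3]
  refine IsCompact.isRetrocompact ?_ ((hO.preimage hf).preimage continuous_subtype_val)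
  rw [IsEmbedding.subtypeVal.isCompact_iff, Subtype.image_preimage_coe]
  exact h2

end Groth.Agent.Lib.Helper22.Strata
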